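import Cfsg.Agent.H212.EP.Bound
import Cfsg.Agent.H419.EP.Soc
import Cfsg.Agent.H955.Sp
import Cfsg.Agent.H934.OutB
import Cfsg.Agent.H638.G2Iso
import Cfsg.Agent.S0813
import Cfsg.Agent.S0814
import Cfsg.Agent.S0245
import Cfsg.Agent.S0246
import Cfsg.Agent.S2121
import Cfsg.Agent.S1694
import Cfsg.Agent.KFacts.SuzOut
import Cfsg.Agent.ClassicalGeometry.PSL2Basic

/-!
# S3499: orders of automorphism groups, orders of models
-/

set_option autoImplicit false

namespace Cfsg.Agent.H212.EP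

open Subgroup Cfsg.Agent.H284 Cfsg.Agent.H419.EP
open scoped MatrixGroups

/-- `|A|` divides `|Aut L|` -/
theorem card_dvd_aut {Q : Type*} [Group Q] {A : Subgroup Q} {L : Type*} [Group L] [Finite L] (h : HasSoc A L) :
    Nat.card A ∣ Nat.card (MulAut L) := by
  obtain ⟨f, hf⟩ := h.exists_hom
  exact Subgroup.card_dvd_of_injective f hf

/-- `|PGL_2(q)|` -/
theorem card_pgl {F : Type*} [Field F] [Fintype F] : Nat.card (Matrix.ProjGenLinGroup (Fin 2) F) =
    Fintype.card F * (Fintype.card F ^ 2 - 1) := by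
  classical
  have h2 : Nat.card (Matrix.ProjGenLinGroup (Fin 2) F) * (Fintype.card F - 1) = Nat.card (GL (Fin 2) F) :=
    Cfsg.Agent.ClassicalGeometry.PSL2Basic.card_PGL_mul (Fin 2) F
  rw [Matrix.card_GL_field] at h2
  have h3 : 0 < Fintype.card F - 1 := by
    have := Fintype.one_lt_card (α := F)
    omega
  have h4 : Nat.card (Matrix.ProjGenLinGroup (Fin 2) F) * (Fintype.card F - 1) =
    (Fintype.card F * (Fintype.card F ^ 2 - 1)) * (Fintype.card F - 1) := by
    rw [h2, Fin.prod_univ_two]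
    obtain ⟨q, hq⟩ : ∃ q, Fintype.card F = q + 1 := ⟨Fintype.card F - 1, by omega⟩
    rw [hq]
    simp only [Fin.val_zero, Fin.val_one, pow_zero, pow_one, Nat.add_sub_cancel]
    have e1 : (q + 1) ^ 2 - 1 = q * (q + 2) := by
      have : (q + 1) ^ 2 = q * (q + 2) + 1 := by ring
      omega
    have e2 : (q + 1) ^ 2 - (q + 1) = q * (q + 1) := by
      have : (q + 1) ^ 2 = q * (q + 1) + (q + 1) := by ring
      omega
    rw [e1, e2]
    ring
  exact Nat.eq_of_mul_eq_mul_right h3 h4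

/-- `|Aut PSL_2(p^f)|` -/
theorem aut_psl_two {F : Type*} [Field F] [Fintype F] {p f : ℕ} (hp : p.Prime) (hf : 1 ≤ f)
    (hF : Fintype.card F = p ^ f) (h4 : 4 ≤ p ^ f) :
    Nat.card (MulAut (Matrix.ProjectiveSpecialLinearGroup (Fin 2) F)) = f * (p ^ f * ((p ^ f) ^ 2 - 1)) := by
  have : Fact p.Prime := ⟨hp⟩
  rw [Cfsg.Agent.S0813.result p f hf hF 2 le_rfl (fun _ => h4), if_pos rfl, card_pgl, hF, one_mul]

theorem aut_l11 : Nat.card (MulAut (Matrix.ProjectiveSpecialLinearGroup (Fin 2) (ZMod 11))) = 1320 := by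
  have : Fact (Nat.Prime 11) := ⟨by norm_num⟩
  have h := aut_psl_two (F := ZMod 11) (p := 11) (f := 1) (by norm_num) le_rfl (by rw [ZMod.card]; norm_num)
    (by norm_num)
  rw [h]
  norm_num

theorem aut_l13 : Nat.card (MulAut (Matrix.ProjectiveSpecialLinearGroup (Fin 2) (ZMod 13))) = 2184 := by
  have : Fact (Nat.Prime 13) := ⟨by norm_num⟩
  have h := aut_psl_two (F := ZMod 13) (p := 13) (f := 1) (by norm_num) le_rfl (by rw [ZMod.card]; norm_num)
    (by norm_num)
  rw [h]
  norm_num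

theorem aut_l25 {K : Type*} [Field K] [Fintype K] (hK : Fintype.card K = 25) :
    Nat.card (MulAut (Matrix.ProjectiveSpecialLinearGroup (Fin 2) K)) = 31200 := by
  rw [aut_psl_two (F := K) (p := 5) (f := 2) (by norm_num) (by norm_num) (by rw [hK]; norm_num) (by norm_num)]
  norm_num

/-- `|PSp_4(5)| = 4680000` -/
theorem card_psp45 {K : Type*} [Field K] [Fintype K] (hK : Fintype.card K = 5) : Nat.card (Cfsg.PSp 2 K) = 4680000 := by
  have h1 := Cfsg.Agent.S0245.result hK 2
  have h2 := Cfsg.Agent.S0246.result hK 2 (by norm_num)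
  have h3 := Subgroup.card_eq_card_quotient_mul_card_subgroup (Subgroup.center (Matrix.symplecticGroup (Fin 2) K))
  rw [h1, h2] at h3
  have h4 : Nat.card (Cfsg.PSp 2 K) = Nat.card ((Matrix.symplecticGroup (Fin 2) K) ⧸
    (Subgroup.center (Matrix.symplecticGroup (Fin 2) K))) := rfl
  rw [h4]
  simp only [Finset.prod_range_succ, Finset.prod_range_zero] at h3
  norm_num at h3
  omega

theorem aut_psp45 {K : Type*} [Field K] [Fintype K] (hK : Fintype.card K = 5) :
    Nat.card (MulAut (Cfsg.PSp 2 K)) = 9360000 := by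
  have : Fact (Nat.Prime 5) := ⟨by norm_num⟩
  rw [Cfsg.Agent.S0814.result (F := K) 5 1 le_rfl (by rw [hK]; norm_num) 2 le_rfl (fun _ => by norm_num), card_psp45 hK]
  norm_num

theorem aut_g24 {K : Type*} [Field K] [Fintype K] (hK : Fintype.card K = 4) (hs : IsSimpleGroup (Cfsg.Lie.G2 K))
    (hna : ¬ IsMulCommutative (Cfsg.Lie.G2 K)) : Nat.card (MulAut (Cfsg.Lie.G2 K)) = 503193600 := by
  have : Fact (Nat.Prime 2) := ⟨Nat.prime_two⟩
  have hch : CharP K 2 := by
    obtain ⟨p, hp⟩ := CharP.exists K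
    have hpp := CharP.char_is_prime K p
    obtain ⟨n, -, hn⟩ := FiniteField.card K p
    have h1 : p ∣ 2 ^ 2 := by
      rw [show (2 : ℕ) ^ 2 = Fintype.card K by rw [hK]; norm_num, hn]
      exact dvd_pow_self _ n.ne_zero
    have h2 := (Nat.prime_dvd_prime_iff_eq hpp Nat.prime_two).1 (hpp.dvd_of_dvd_pow h1)
    rwa [h2] at hp
  obtain ⟨e⟩ := Cfsg.Agent.H638.G2Iso.equiv (F := K)
  have hfin : Finite (Cfsg.Lie.chevG2.group K) := inferInstance
  have hsc : IsSimpleGroup (Cfsg.Lie.chevG2.group K) := e.symm.isSimpleGroup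
  have hnac : ¬ IsMulCommutative (Cfsg.Lie.chevG2.group K) := by
    intro hc
    apply hna
    refine ⟨⟨fun a b => e.injective ?_⟩⟩
    rw [map_mul, map_mul]
    exact hc.is_comm.comm _ _
  rw [Nat.card_congr (MulAut.congr e).toEquiv, ← H934.OutB.card_out_mul (Cfsg.Lie.chevG2.group K) hnac,
    Cfsg.Agent.S2121.result (F := K) 2 2 (by rw [hK]; norm_num) (by norm_num), if_neg (by norm_num),
    ← Nat.card_congr e.toEquiv, H638.G2Iso.card_G2, Nat.card_eq_fintype_card, hK]
  norm_num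

theorem aut_suz {M : Type*} [Group M] (h : Cfsg.Spor.IsoSuz M) : Nat.card (MulAut M) ∣ 896690995200 := by
  obtain ⟨e⟩ := h
  rw [Nat.card_congr (MulAut.congr e).toEquiv]
  have h1 := card_mul_index (MulAut.conj : Spor.Suz →* MulAut Spor.Suz).range
  rw [← h1, show 896690995200 = 448345497600 * 2 by norm_num]
  refine mul_dvd_mul ?_ ?_
  · have h2 : Nat.card Spor.Suz = 448345497600 := Cfsg.Agent.S1694.result.2
    rw [← h2]
    exact Subgroup.card_range_dvd _
  · rcases Cfsg.Agent.KFacts.SuzOut.index_eq with h2 | h2 <;> rw [h2]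
    exact one_dvd 2

/-! ### models -/

/-- `|S| ≤ |Q| (q - 1)` -/
theorem card_le_model {Q : Type*} [Group Q] [Finite Q] {ι : Type} [Fintype ι] [DecidableEq ι] {F : Type*} [Field F]
    [Fintype F] {S : Subgroup (GL ι F)} (m : Model Q S) : Nat.card S ≤ Nat.card Q * (Fintype.card F - 1) := by
  classical
  have h1 := Subgroup.card_eq_card_quotient_mul_card_subgroup m.π.ker
  have h2 : Nat.card (S ⧸ m.π.ker) = Nat.card Q :=
    Nat.card_congr (QuotientGroup.quotientKerEquivOfSurjective m.π m.surj).toEquiv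
  rw [h2] at h1
  rw [h1]
  apply Nat.mul_le_mul_left
  have h3 : Nat.card (Cfsg.Geo.scalars ι F) ≤ Fintype.card F - 1 := by
    have h4 : Nat.card (Cfsg.Geo.scalars ι F) ≤ Nat.card Fˣ := by
      unfold Cfsg.Geo.scalars
      exact Nat.le_of_dvd Nat.card_pos (Subgroup.card_range_dvd _)
    rw [Nat.card_eq_fintype_card (α := Fˣ), Fintype.card_units] at h4
    exact h4
  refine le_trans ?_ h3
  let f : m.π.ker → Cfsg.Geo.scalars ι F := fun s => ⟨(s : S), (m.ker s).1 s.2⟩
  have hf : Function.Injective f := by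
    intro a b h
    exact Subtype.ext (Subtype.ext (congrArg (fun z : Cfsg.Geo.scalars ι F => (z : GL ι F)) h))
  exact Nat.card_le_card_of_injective f hf

theorem card_Q {Q : Type*} [Group Q] (A : Subgroup Q) : A.index * Nat.card A = Nat.card Q := A.index_mul_card

end Cfsg.Agent.H212.EP
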