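import Cfsg.Agent.H212.EP.Count
import Cfsg.Agent.H173.EP.LineBound

/-!
# S3499: index bound from the order of `A` (or a multiple of it)

`index_le_of_dvd` : `|A| ∣ N`, `n ^ (k + 1) ∤ N` for `60 ≤ n`:
`60 ^ k * |Q : A| ≤ 60 ^ k + (60 ^ k * (bound for the number of p-subgroups) + N ^ (k + 1)) * (2 * (N / μ))`.
-/

set_option autoImplicit false

namespace Cfsg.Agent.H212.EP

open Subgroup Cfsg.Agent.H284

universe u

/-- bound for the number of subgroups of prime power order of a group of order `N`, `l` the list of the pairs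
(prime, exponent) -/
def spl (N : ℕ) (l : List (ℕ × ℕ)) : ℕ := (l.map fun x => N / x.1 ^ x.2 * cr x.1 x.2).sum

theorem pcount_le {G : Type*} [Group G] [Finite G] {N p v : ℕ} (hN : N ≠ 0) (hG : Nat.card G ∣ N) (hp : p.Prime)
    (hv : p ^ v ∣ N) (hv' : ¬ p ^ (v + 1) ∣ N) :
    Nat.card {P : Subgroup G // IsPGroup p P} ≤ N / p ^ v * cr p v := by
  refine (card_pgroups_le hp).trans ?_
  have hvN : N.factorization p = v := by
    apply le_antisymm
    · by_contra hcon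
      push Not at hcon
      exact hv' ((Nat.Prime.pow_dvd_iff_le_factorization hp hN).2 hcon)
    · exact (Nat.Prime.pow_dvd_iff_le_factorization hp hN).1 hv
  have hle : (Nat.card G).factorization p ≤ v := by
    rw [← hvN]
    exact (Nat.factorization_le_iff_dvd Nat.card_pos.ne' hN).2 hG p
  refine Nat.mul_le_mul ?_ (cr_mono hle)
  rw [← hvN]
  exact Nat.le_of_dvd (Nat.ordCompl_pos p hN) (Nat.ordCompl_dvd_ordCompl_of_dvd hG p)

theorem sum_le {G : Type*} [Group G] [Finite G] {N : ℕ} (hN : N ≠ 0) (hG : Nat.card G ∣ N) {l : List (ℕ × ℕ)}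
    (hl : ∀ p, p.Prime → p ∣ N → ∃ v, (p, v) ∈ l ∧ p ^ v ∣ N ∧ ¬ p ^ (v + 1) ∣ N) :
    ∑ p ∈ (Nat.card G).primeFactors, Nat.card {P : Subgroup G // IsPGroup p P} ≤ spl N l := by
  classical
  have hl' : ∀ p : (Nat.card G).primeFactors, ∃ v, ((p : ℕ), v) ∈ l ∧ (p : ℕ) ^ v ∣ N ∧ ¬ (p : ℕ) ^ (v + 1) ∣ N :=
    fun p => hl p (Nat.prime_of_mem_primeFactors p.2) ((Nat.dvd_of_mem_primeFactors p.2).trans hG)
  choose v hv1 hv2 hv3 using hl'
  have h1 : ∑ p ∈ (Nat.card G).primeFactors, Nat.card {P : Subgroup G // IsPGroup p P} ≤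
      ∑ x ∈ l.toFinset, N / x.1 ^ x.2 * cr x.1 x.2 := by
    rw [← Finset.sum_coe_sort (Nat.card G).primeFactors (fun p => Nat.card {P : Subgroup G // IsPGroup p P})]
    calc ∑ p : (Nat.card G).primeFactors, Nat.card {P : Subgroup G // IsPGroup (p : ℕ) P} ≤
        ∑ p : (Nat.card G).primeFactors, N / (p : ℕ) ^ (v p) * cr p (v p) :=
          Finset.sum_le_sum fun p _ => pcount_le hN hG (Nat.prime_of_mem_primeFactors p.2) (hv2 p) (hv3 p)
      _ = ∑ x ∈ Finset.univ.image (fun p : (Nat.card G).primeFactors => ((p : ℕ), v p)),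
          N / x.1 ^ x.2 * cr x.1 x.2 := by
        rw [Finset.sum_image]
        intro p _ q _ hpq
        exact Subtype.ext (congrArg Prod.fst hpq)
      _ ≤ _ := by
        apply Finset.sum_le_sum_of_subset
        intro x hx
        obtain ⟨p, -, rfl⟩ := Finset.mem_image.1 hx
        exact List.mem_toFinset.2 (hv1 p)
  refine h1.trans ?_
  rw [spl, Finset.sum_list_map_count]
  refine Finset.sum_le_sum fun x hx => ?_
  rw [smul_eq_mul]
  exact Nat.le_mul_of_pos_left _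
    ((@List.count_pos_iff (ℕ × ℕ) instBEqOfDecidableEq inferInstance x l).2 (List.mem_toFinset.1 hx))

/-- **Index bound.** -/
theorem index_le_of_dvd (H2 : TwoGenAll.{u}) {Q : Type u} [Group Q] [Finite Q] (hs : IsSimpleGroup Q) {A : Subgroup Q}
    {Γ : Subgroup (MulAut Q)} (h : EPT A Γ) {N : ℕ} (hN : N ≠ 0) (hA : Nat.card A ∣ N) {l : List (ℕ × ℕ)}
    (hl : ∀ p, p.Prime → p ∣ N → ∃ v, (p, v) ∈ l ∧ p ^ v ∣ N ∧ ¬ p ^ (v + 1) ∣ N) {k : ℕ}
    (hk : ∀ n, 60 ≤ n → ¬ n ^ (k + 1) ∣ N) {μ : ℕ} (hμ : 0 < μ)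
    (hmu : ∀ x, x ∉ A → μ ≤ Nat.card (A ⊓ cj x A : Subgroup Q)) :
    60 ^ k * A.index ≤ 60 ^ k + (60 ^ k * spl N l + N ^ (k + 1)) * (2 * (N / μ)) := by
  have h1 := Cfsg.Agent.H173.EP.ub1 hs h hμ hmu
  have h2 := r_le h hs
  have h3 := sum_le hN hA hl
  have h4 := card_nonab_le (G := A) H2 (k := k) (fun n hn hd => hk n hn (hd.trans hA))
  set r := {M : Subgroup Q | ∃ x, x ∉ A ∧ M = A ⊓ cj x A}.ncard with hr
  have hAN : Nat.card A ≤ N := Nat.le_of_dvd (Nat.pos_of_ne_zero hN) hA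
  have h5 : 60 ^ k * r ≤ 60 ^ k * spl N l + N ^ (k + 1) := by
    calc 60 ^ k * r ≤ 60 ^ k * (∑ p ∈ (Nat.card A).primeFactors, Nat.card {P : Subgroup A // IsPGroup p P} +
          Nat.card {X : Subgroup A // IsNonab X}) := Nat.mul_le_mul_left _ h2
      _ ≤ 60 ^ k * (spl N l + Nat.card {X : Subgroup A // IsNonab X}) :=
          Nat.mul_le_mul_left _ (Nat.add_le_add_right h3 _)
      _ = 60 ^ k * spl N l + 60 ^ k * Nat.card {X : Subgroup A // IsNonab X} := by ring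
      _ ≤ _ := Nat.add_le_add_left (h4.trans (Nat.pow_le_pow_left hAN _)) _
  calc 60 ^ k * A.index ≤ 60 ^ k * (1 + r * (2 * (Nat.card A / μ))) := Nat.mul_le_mul_left _ h1
    _ = 60 ^ k + (60 ^ k * r) * (2 * (Nat.card A / μ)) := by ring
    _ ≤ _ := Nat.add_le_add_left (Nat.mul_le_mul h5 (Nat.mul_le_mul_left _ (Nat.div_le_div_right hAN))) _

/-- the version with `μ = 2` and an explicit bound -/
theorem index_le_of_dvd' (H2 : TwoGenAll.{u}) {Q : Type u} [Group Q] [Finite Q] (hs : IsSimpleGroup Q) {A : Subgroup Q}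
    {Γ : Subgroup (MulAut Q)} (h : EPT A Γ) {N : ℕ} (hN : N ≠ 0) (hA : Nat.card A ∣ N) {l : List (ℕ × ℕ)}
    (hl : ∀ p, p.Prime → p ∣ N → ∃ v, (p, v) ∈ l ∧ p ^ v ∣ N ∧ ¬ p ^ (v + 1) ∣ N) {k : ℕ}
    (hk : ∀ n, 60 ≤ n → ¬ n ^ (k + 1) ∣ N) {B : ℕ} (hB : 60 ^ k + (60 ^ k * spl N l + N ^ (k + 1)) * N ≤ 60 ^ k * B) :
    A.index ≤ B := by
  have h1 := index_le_of_dvd H2 hs h hN hA hl hk (μ := 2) (by norm_num) (fun x hx => by
    have h2 : Nat.card (A ⊓ cj x A : Subgroup Q) ≠ 1 := fun e => h.M0 x hx (Subgroup.card_eq_one.1 e)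
    have h3 : 0 < Nat.card (A ⊓ cj x A : Subgroup Q) := Nat.card_pos
    omega)
  refine Nat.le_of_mul_le_mul_left ?_ (show 0 < 60 ^ k by positivity)
  refine (h1.trans ?_).trans hB
  exact Nat.add_le_add_left (Nat.mul_le_mul_left _ (Nat.mul_div_le N 2)) _

/-- the condition on the powers, checked for small `n` -/
theorem pow_not_dvd {N k m : ℕ} (hN : N ≠ 0) (hm : N < m ^ (k + 1)) (h : ∀ n < m, 60 ≤ n → ¬ n ^ (k + 1) ∣ N) :
    ∀ n, 60 ≤ n → ¬ n ^ (k + 1) ∣ N := by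
  intro n hn hd
  by_cases hnm : n < m
  · exact h n hnm hn hd
  · have h1 := Nat.le_of_dvd (Nat.pos_of_ne_zero hN) hd
    have h2 : m ^ (k + 1) ≤ n ^ (k + 1) := Nat.pow_le_pow_left (by omega) _
    omega

/-- the two point stabilisers have at least six elements if `A` has no abelian normal subgroup `≠ 1` -/
theorem six_le {Q : Type u} [Group Q] [Finite Q] {A : Subgroup Q} {Γ : Subgroup (MulAut Q)} (h : EPT A Γ)
    (hab : ∀ K : Subgroup Q, K ≤ A → (∀ a ∈ A, ∀ k ∈ K, a * k * a⁻¹ ∈ K) → (∀ a ∈ K, ∀ b ∈ K, a * b = b * a) → K = ⊥) :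
    ∀ x, x ∉ A → 6 ≤ Nat.card (A ⊓ cj x A : Subgroup Q) := by
  intro x hx
  by_contra hcon
  push Not at hcon
  have hcomm : ∀ a ∈ A ⊓ cj x A, ∀ b ∈ A ⊓ cj x A, a * b = b * a := by
    have h1 : ∀ (G : Type u) [Group G] [Finite G], Nat.card G < 6 → ∀ a b : G, a * b = b * a := by
      intro G _ _ hG
      have hpos : 0 < Nat.card G := Nat.card_pos
      have hc : Nat.card G = 1 ∨ (Nat.card G).Prime ∨ Nat.card G = 2 ^ 2 := by
        interval_cases Nat.card G <;> norm_num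
      rcases hc with h1 | h1 | h1
      · have := (Nat.card_eq_one_iff_unique.1 h1).1
        exact fun a b => Subsingleton.elim _ _
      · have : Fact (Nat.card G).Prime := ⟨h1⟩
        have hcy : IsCyclic G := isCyclic_of_prime_card rfl
        obtain ⟨g, hg⟩ := hcy.exists_generator
        intro a b
        obtain ⟨m, rfl⟩ := mem_zpowers_iff.1 (hg a)
        obtain ⟨n, rfl⟩ := mem_zpowers_iff.1 (hg b)
        rw [← zpow_add, ← zpow_add, add_comm]
      · have : Fact (Nat.Prime 2) := ⟨Nat.prime_two⟩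
        exact fun a b => (IsPGroup.isMulCommutative_of_card_eq_prime_sq (p := 2) h1).is_comm.comm a b
    intro a ha b hb
    exact congrArg Subtype.val (h1 _ hcon (⟨a, ha⟩ : (A ⊓ cj x A : Subgroup Q)) ⟨b, hb⟩)
  obtain ⟨K, hK1, hK2, hK3, hK4⟩ := h.abM0 x hx hcomm
  exact hK3 (hab K hK1 (fun a ha k hk => by
    have := hK2 _ ((h.conj a).2 ha) k hk
    rwa [MulAut.conj_apply] at this) hK4)

end Cfsg.Agent.H212.EP
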