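import Cfsg.Agent.S0493

/-!
# Generators of a direct power of a finite nonabelian simple group, counting of such subgroups

* `exists_gen_pi` : `T ^ m` is generated by `m + 1` elements;
* `card_nonab_le` : the number of subgroups `X` of `G` with `X ≅ T ^ m` (`T` simple, nonabelian, `1 ≤ m ≤ k`) times
  `60 ^ k` is at most `|G| ^ (k + 1)`.
-/

set_option autoImplicit false

namespace Cfsg.Agent.H212.EP

open Subgroup

universe u

/-- every finite simple group is generated by two elements (S3948) -/
def TwoGenAll : Prop := ∀ (T : Type u) [Group T] [Finite T], IsSimpleGroup T → ∃ x y : T, closure ({x, y} : Set T) = ⊤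

section gen

variable {T : Type u} [Group T] [Finite T]

/-- `T ^ (m + 1)` is generated by `m + 2` elements -/
theorem exists_gen_pi (H2 : TwoGenAll.{u}) (hT : IsSimpleGroup T) (m : ℕ) :
    ∃ f : Fin (m + 1 + 1) → (Fin (m + 1) → T), closure (Set.range f) = ⊤ := by
  obtain ⟨u, v, huv⟩ := H2 T hT
  obtain ⟨w, hw⟩ := exists_ne (1 : T)
  let δ : T →* (Fin (m + 1) → T) := MonoidHom.pi fun _ => MonoidHom.id T
  have hδ : ∀ t i, δ t i = t := fun t i => rfl
  let f : Fin (m + 1 + 1) → (Fin (m + 1) → T) :=
    Fin.cons (δ u) (Fin.cons (δ v) fun i : Fin m => Pi.mulSingle i.castSucc w)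
  refine ⟨f, ?_⟩
  set H := closure (Set.range f) with hH
  have hu : δ u ∈ H := subset_closure ⟨0, rfl⟩
  have hv : δ v ∈ H := subset_closure ⟨1, rfl⟩
  have hws : ∀ i : Fin m, Pi.mulSingle i.castSucc w ∈ H := fun i => subset_closure ⟨i.succ.succ, rfl⟩
  have hdiag : ∀ t, δ t ∈ H := by
    intro t
    have h1 : t ∈ closure ({u, v} : Set T) := by rw [huv]; exact mem_top _
    have h2 : closure ({u, v} : Set T) ≤ H.comap δ := by
      rw [closure_le]
      rintro x (rfl | rfl)
      · exact hu
      · exact hv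
    exact h2 h1
  have hN : ∀ i : Fin m, ∀ t : T, Pi.mulSingle i.castSucc t ∈ H := by
    intro i
    let N : Subgroup T := H.comap (MonoidHom.mulSingle (fun _ => T) i.castSucc)
    have hmem : ∀ t, t ∈ N ↔ Pi.mulSingle i.castSucc t ∈ H := fun t => Iff.rfl
    have hNn : N.Normal := by
      constructor
      intro n hn g
      rw [hmem] at hn ⊢
      have h1 : (Pi.mulSingle i.castSucc (g * n * g⁻¹) : Fin (m + 1) → T) =
          δ g * Pi.mulSingle i.castSucc n * (δ g)⁻¹ := by
        funext j
        rw [Pi.mul_apply, Pi.mul_apply, Pi.inv_apply, hδ]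
        by_cases hj : j = i.castSucc
        · subst hj
          rw [Pi.mulSingle_eq_same, Pi.mulSingle_eq_same]
        · rw [Pi.mulSingle_eq_of_ne hj, Pi.mulSingle_eq_of_ne hj, mul_one, mul_inv_cancel]
      rw [h1]
      exact H.mul_mem (H.mul_mem (hdiag g) hn) (H.inv_mem (hdiag g))
    rcases hNn.eq_bot_or_eq_top with h1 | h1
    · exfalso
      apply hw
      have : w ∈ N := (hmem w).2 (hws i)
      rwa [h1, mem_bot] at this
    · intro t
      rw [← hmem, h1]
      exact mem_top _
  rw [eq_top_iff]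
  intro x _
  have h1 : x * (δ (x (Fin.last m)))⁻¹ ∈ H := by
    apply Subgroup.pi_mem_of_mulSingle_mem
    intro i
    refine Fin.lastCases ?_ (fun i => ?_) i
    · rw [Pi.mul_apply, Pi.inv_apply, hδ, mul_inv_cancel, Pi.mulSingle_one]
      exact H.one_mem
    · exact hN i _
  have h2 := H.mul_mem h1 (hdiag (x (Fin.last m)))
  rwa [inv_mul_cancel_right] at h2

end gen

/-- a non-abelian finite simple group has at least 60 elements -/
theorem sixty_le {T : Type*} [Group T] [Finite T] (hT : IsSimpleGroup T) (hna : ∃ a b : T, a * b ≠ b * a) :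
    60 ≤ Nat.card T := by
  by_contra hcon
  obtain ⟨a, b, hab⟩ := hna
  have h1 : ¬ IsCyclic T := by
    intro hcy
    apply hab
    obtain ⟨g, hg⟩ := hcy.exists_generator
    obtain ⟨m, rfl⟩ := mem_zpowers_iff.1 (hg a)
    obtain ⟨n, rfl⟩ := mem_zpowers_iff.1 (hg b)
    rw [← zpow_add, ← zpow_add, add_comm]
  have := Cfsg.Agent.S0493.result h1 (by omega)
  omega

/-- the centre of `T ^ m` is trivial -/
theorem center_pi {T : Type*} [Group T] (hT : IsSimpleGroup T) (hna : ∃ a b : T, a * b ≠ b * a) {ι : Type*}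
    [DecidableEq ι] {z : ι → T} (hz : ∀ x, z * x = x * z) : z = 1 := by
  have hc : center T = ⊥ := by
    rcases (inferInstance : (center T).Normal).eq_bot_or_eq_top with h1 | h1
    · exact h1
    · exfalso
      obtain ⟨a, b, hab⟩ := hna
      apply hab
      have : b ∈ center T := by rw [h1]; exact mem_top _
      exact mem_center_iff.1 this a
  funext i
  have h1 : z i ∈ center T := by
    rw [mem_center_iff]
    intro t
    have h2 := congrFun (hz (Pi.mulSingle i t)) i
    rw [Pi.mul_apply, Pi.mul_apply, Pi.mulSingle_eq_same] at h2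
    exact h2.symm
  rw [hc, mem_bot] at h1
  exact h1

/-- `X ≅ T ^ (m + 1)`, `T` simple and not abelian -/
def IsNonab {G : Type u} [Group G] (X : Subgroup G) : Prop :=
  ∃ (T : Type u) (_ : Group T) (m : ℕ), IsSimpleGroup T ∧ (∃ a b : T, a * b ≠ b * a) ∧
    Nonempty (X ≃* (Fin (m + 1) → T))

section count

variable {G : Type u} [Group G] [Finite G] {k : ℕ}

/-- many generating tuples -/
theorem card_tuples (H2 : TwoGenAll.{u}) (hk : ∀ n, 60 ≤ n → ¬ n ^ (k + 1) ∣ Nat.card G) {X : Subgroup G}
    (hX : IsNonab X) : 60 ^ k ≤ Nat.card {g : Fin (k + 1) → G // closure (Set.range g) = X} := by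
  classical
  obtain ⟨T, _, m, hT, hna, ⟨e⟩⟩ := hX
  have hfin : Finite (Fin (m + 1) → T) := Finite.of_equiv _ e.toEquiv
  have hfT : Finite T := Finite.of_injective (fun t : T => (fun _ => t : Fin (m + 1) → T)) fun a b h => congrFun h 0
  have h60 := sixty_le hT hna
  have hcX : Nat.card X = Nat.card T ^ (m + 1) := by
    rw [Nat.card_congr e.toEquiv, Nat.card_fun, Nat.card_eq_fintype_card (α := Fin (m + 1)), Fintype.card_fin]
  have hmk : m + 1 ≤ k := by
    by_contra hcon
    push Not at hcon
    apply hk _ h60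
    have h1 : Nat.card T ^ (k + 1) ∣ Nat.card T ^ (m + 1) := pow_dvd_pow _ (by omega)
    rw [← hcX] at h1
    exact h1.trans (Subgroup.card_subgroup_dvd_card X)
  obtain ⟨n, rfl⟩ : ∃ n, k = m + 1 + n := ⟨k - (m + 1), by omega⟩
  obtain ⟨f, hf⟩ := exists_gen_pi H2 hT m
  let f' : Fin (m + 1 + 1) → X := fun i => e.symm (f i)
  have hf' : closure (Set.range f') = ⊤ := by
    have h1 : Set.range f' = e.symm.toMonoidHom '' Set.range f := by
      rw [← Set.range_comp]
      rfl
    rw [h1, ← MonoidHom.map_closure, hf, ← MonoidHom.range_eq_map]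
    exact MonoidHom.range_eq_top.2 e.symm.surjective
  have hcen : ∀ x : X, (∀ i, x * f' i = f' i * x) → x = 1 := by
    intro x hx
    have h1 : ∀ y : X, x * y = y * x := by
      intro y
      have h2 : y ∈ closure (Set.range f') := by rw [hf']; exact mem_top _
      have h3 : closure (Set.range f') ≤ centralizer ({x} : Set X) := by
        rw [closure_le]
        rintro _ ⟨i, rfl⟩
        exact mem_centralizer_singleton_iff.2 (hx i).symm
      exact (mem_centralizer_singleton_iff.1 (h3 h2)).symm
    have h2 : e x = 1 := by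
      apply center_pi hT hna
      intro y
      have h3 := congrArg e (h1 (e.symm y))
      rwa [map_mul, map_mul, e.apply_symm_apply] at h3
    rw [← e.map_one] at h2
    exact e.injective h2
  let ε : Fin (m + 1 + n + 1) ≃ Fin (m + 1 + 1) ⊕ Fin n := Fintype.equivOfCardEq (by
    rw [Fintype.card_fin, Fintype.card_sum, Fintype.card_fin, Fintype.card_fin]; omega)
  let F : X × (Fin n → X) → Fin (m + 1 + n + 1) → X := fun p =>
    (Sum.elim (fun i => p.1 * f' i * p.1⁻¹) p.2) ∘ ε
  have hF : ∀ p, closure (Set.range (F p)) = ⊤ := by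
    intro p
    have h1 : Set.range (F p) = Set.range (Sum.elim (fun i => p.1 * f' i * p.1⁻¹) p.2) :=
      ε.surjective.range_comp _
    rw [h1, eq_top_iff]
    have h2 : closure (Set.range fun i => p.1 * f' i * p.1⁻¹) = ⊤ := by
      have h3 : (Set.range fun i => p.1 * f' i * p.1⁻¹) = (MulAut.conj p.1).toMonoidHom '' Set.range f' := by
        rw [← Set.range_comp]
        rfl
      rw [h3, ← MonoidHom.map_closure, hf', ← MonoidHom.range_eq_map]
      exact MonoidHom.range_eq_top.2 (MulAut.conj p.1).surjective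
    rw [← h2]
    apply Subgroup.closure_mono
    rintro _ ⟨i, rfl⟩
    exact ⟨Sum.inl i, rfl⟩
  have hFi : Function.Injective F := by
    intro p q hpq
    have h1 : Sum.elim (fun i => p.1 * f' i * p.1⁻¹) p.2 = Sum.elim (fun i => q.1 * f' i * q.1⁻¹) q.2 := by
      funext j
      have := congrFun hpq (ε.symm j)
      simp only [F, Function.comp_apply, Equiv.apply_symm_apply] at this
      exact this
    have h2 : ∀ i, p.1 * f' i * p.1⁻¹ = q.1 * f' i * q.1⁻¹ := fun i => congrFun h1 (Sum.inl i)
    have h3 : p.2 = q.2 := funext fun i => congrFun h1 (Sum.inr i)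
    have h4 : q.1⁻¹ * p.1 = 1 := by
      apply hcen
      intro i
      have h5 := h2 i
      calc q.1⁻¹ * p.1 * f' i = q.1⁻¹ * (p.1 * f' i * p.1⁻¹) * p.1 := by group
        _ = q.1⁻¹ * (q.1 * f' i * q.1⁻¹) * p.1 := by rw [h5]
        _ = _ := by group
    exact Prod.ext (inv_mul_eq_one.1 h4).symm h3
  let Φ : X × (Fin n → X) → {g : Fin (m + 1 + n + 1) → G // closure (Set.range g) = X} := fun p =>
    ⟨fun i => (F p i : G), by
      have h1 : (Set.range fun i => (F p i : G)) = X.subtype '' Set.range (F p) := by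
        rw [← Set.range_comp]
        rfl
      rw [h1, ← MonoidHom.map_closure, hF, ← MonoidHom.range_eq_map, Subgroup.range_subtype]⟩
  have hΦ : Function.Injective Φ := by
    intro p q hpq
    apply hFi
    funext i
    exact Subtype.ext (congrFun (congrArg Subtype.val hpq) i)
  refine le_trans ?_ (Nat.card_le_card_of_injective Φ hΦ)
  rw [Nat.card_prod, Nat.card_fun, Nat.card_eq_fintype_card (α := Fin n), Fintype.card_fin, hcX, ← pow_mul, ← pow_add]
  calc 60 ^ (m + 1 + n) ≤ Nat.card T ^ (m + 1 + n) := Nat.pow_le_pow_left h60 _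
    _ ≤ Nat.card T ^ (m + 1 + (m + 1) * n) := by
        apply Nat.pow_le_pow_right (by omega)
        have : n ≤ (m + 1) * n := Nat.le_mul_of_pos_left _ (by omega)
        omega

/-- **The number of subgroups `T ^ (m + 1)`, `T` simple nonabelian.** -/
theorem card_nonab_le (H2 : TwoGenAll.{u}) (hk : ∀ n, 60 ≤ n → ¬ n ^ (k + 1) ∣ Nat.card G) :
    60 ^ k * Nat.card {X : Subgroup G // IsNonab X} ≤ Nat.card G ^ (k + 1) := by
  classical
  let Ψ : (Σ X : {X : Subgroup G // IsNonab X}, {g : Fin (k + 1) → G // closure (Set.range g) = X.1}) →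
      (Fin (k + 1) → G) := fun p => p.2.1
  have hΨ : Function.Injective Ψ := by
    rintro ⟨⟨X, hX⟩, g, hg⟩ ⟨⟨Y, hY⟩, g', hg'⟩ h
    have h1 : g = g' := h
    subst h1
    have h2 : X = Y := hg.symm.trans hg'
    subst h2
    rfl
  have h1 := Nat.card_le_card_of_injective Ψ hΨ
  have := Fintype.ofFinite {X : Subgroup G // IsNonab X}
  rw [Nat.card_fun, Nat.card_eq_fintype_card (α := Fin (k + 1)), Fintype.card_fin, Nat.card_sigma] at h1
  refine le_trans ?_ h1
  calc 60 ^ k * Nat.card {X : Subgroup G // IsNonab X} = ∑ _X : {X : Subgroup G // IsNonab X}, 60 ^ k := by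
        rw [Finset.sum_const, smul_eq_mul, Finset.card_univ, Nat.card_eq_fintype_card, mul_comm]
    _ ≤ _ := Finset.sum_le_sum fun X _ => card_tuples H2 hk X.2

end count

end Cfsg.Agent.H212.EP
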