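import Cfsg.Agent.H212.EP.PCount
import Cfsg.Agent.H212.EP.GenPi
import Cfsg.Agent.H284.EP.TForm
import Cfsg.Agent.Lib.MinNormal

/-!
# S3499: the number of two point stabilisers `M0 = A ∩ A^x`

`M0_le` : every `M0` is `N_A(X)` with `X ≤ A` a `p`-group or `X ≅ T ^ m`; hence the number `r` of the `M0` is at most the
number of `p`-subgroups plus the number of subgroups `T ^ m`.
-/

set_option autoImplicit false

namespace Cfsg.Agent.H212.EP

open Subgroup Cfsg.Agent.H284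

universe u

section

variable {Q : Type u} [Group Q] {A : Subgroup Q} {Γ : Subgroup (MulAut Q)} (h : EPT A Γ)

include h

/-- the stabiliser in `Γ` of the point `xA` -/
def stb (x : Q) : Subgroup (MulAut Q) where
  carrier := {σ | σ ∈ Γ ∧ x⁻¹ * σ x ∈ A}
  one_mem' := ⟨one_mem _, by rw [MulAut.one_apply, inv_mul_cancel]; exact one_mem _⟩
  mul_mem' := by
    rintro σ τ ⟨h1, hx₁⟩ ⟨h2, hx₂⟩
    refine ⟨mul_mem h1 h2, ?_⟩
    rw [MulAut.mul_apply]
    have e : x⁻¹ * σ (τ x) = (x⁻¹ * σ x) * σ (x⁻¹ * τ x) := by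
      rw [map_mul, map_inv]; group
    rw [e]
    exact A.mul_mem hx₁ ((h.inv _ h1 _).2 hx₂)
  inv_mem' := by
    rintro τ ⟨h1, hx₁⟩
    refine ⟨inv_mem h1, ?_⟩
    have h3 := (h.inv _ (Γ.inv_mem h1) _).2 (A.inv_mem hx₁)
    have e4 : τ⁻¹ (x⁻¹ * τ x)⁻¹ = x⁻¹ * τ⁻¹ x := by
      rw [mul_inv_rev, map_mul, map_inv, MulAut.inv_apply_self, inv_inv]
    rwa [e4] at h3

theorem mem_stb {x : Q} {σ : MulAut Q} : σ ∈ stb h x ↔ σ ∈ Γ ∧ x⁻¹ * σ x ∈ A := Iff.rfl

theorem center_bot (hs : IsSimpleGroup Q) {q : Q} (hq : ∀ y, q * y = y * q) : q = 1 := by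
  have h1 : q ∈ center Q := mem_center_iff.2 fun g => (hq g).symm
  rcases (inferInstance : (center Q).Normal).eq_bot_or_eq_top with h2 | h2
  · rwa [h2, mem_bot] at h1
  · exfalso
    have hA : A.Normal := ⟨fun n hn g => by
      have h3 : g ∈ center Q := by rw [h2]; exact mem_top g
      rw [← mem_center_iff.1 h3 n, mul_inv_cancel_right]
      exact hn⟩
    rcases hA.eq_bot_or_eq_top with h3 | h3
    · exact h.ne h3
    · exact h.max.1 h3

/-- **`M0 = N_A(X)`**, `X` a `p`-group or `T ^ m`. -/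
theorem exists_char [Finite Q] (hs : IsSimpleGroup Q) {x : Q} (hx : x ∉ A) : ∃ X : Subgroup Q, X ≤ A ∧
    (∀ a ∈ A, (∀ k ∈ X, a * k * a⁻¹ ∈ X) ↔ a ∈ cj x A) ∧
    ((∃ p, p.Prime ∧ p ∣ Nat.card A ∧ IsPGroup p X) ∨ IsNonab X) := by
  classical
  set M0 := A ⊓ cj x A with hM0
  have hA : ∀ m ∈ M0, m ∈ A := fun m hm => (mem_inf.1 hm).1
  have hc : ∀ m ∈ M0, MulAut.conj m ∈ stb h x := fun m hm =>
    ⟨(h.conj m).2 (hA m hm), (h.conj_stab (hA m hm)).2 (mem_inf.1 hm).2⟩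
  let c : M0 →* stb h x := ((MulAut.conj : Q →* MulAut Q).comp M0.subtype).codRestrict _ fun m => hc m m.2
  have hcv : ∀ m : M0, ((c m : stb h x) : MulAut Q) = MulAut.conj (m : Q) := fun m => rfl
  have hci : Function.Injective c := by
    rw [injective_iff_map_eq_one]
    intro m hm
    apply Subtype.ext
    apply center_bot h hs
    intro y
    have h1 : MulAut.conj (m : Q) = 1 := by rw [← hcv, hm]; rfl
    have h2 := congrArg (fun σ : MulAut Q => σ y) h1
    simp only [MulAut.conj_apply, MulAut.one_apply] at h2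
    exact mul_inv_eq_iff_eq_mul.1 h2
  have hfin : Finite (MulAut Q) := inferInstance
  have hN : c.range.Normal := by
    constructor
    rintro _ ⟨m, rfl⟩ σ
    refine ⟨⟨(σ : MulAut Q) m, h.stab_M0 σ.2.1 σ.2.2 m.2⟩, ?_⟩
    apply Subtype.ext
    rw [hcv, Subgroup.coe_mul, Subgroup.coe_mul, Subgroup.coe_inv, hcv, aut_conj]
  have hN0 : c.range ≠ ⊥ := by
    intro e
    apply h.M0 x hx
    rw [Subgroup.eq_bot_iff_forall]
    intro m hm
    have h1 : c ⟨m, hm⟩ = 1 := by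
      have : c ⟨m, hm⟩ ∈ c.range := ⟨_, rfl⟩
      rwa [e, mem_bot] at this
    exact congrArg Subtype.val (hci (h1.trans (map_one c).symm))
  -- a minimal normal subgroup
  obtain ⟨N, hNmin⟩ : ∃ N : Subgroup (stb h x), Minimal (fun N => N.Normal ∧ N ≤ c.range ∧ N ≠ ⊥) N := by
    obtain ⟨N, -, hN'⟩ := (Set.toFinite {N : Subgroup (stb h x) | N.Normal ∧ N ≤ c.range ∧ N ≠ ⊥}).exists_le_minimal
      (a := c.range) ⟨hN, le_rfl, hN0⟩
    exact ⟨N, hN'⟩
  obtain ⟨⟨hNn', hNle, hNne⟩, hmin⟩ := hNmin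
  have hNn : N.Normal := hNn'
  obtain ⟨T, m, hTN, hTs, hm, ⟨e⟩⟩ := Cfsg.Agent.Lib.MinNormal.exists_mulEquiv_pi N hNne (fun M hM hMN => by
    by_cases hb : M = ⊥
    · exact Or.inl hb
    · exact Or.inr (le_antisymm hMN (hmin ⟨hM, hMN.trans hNle, hb⟩ hMN)))
  -- the subgroup of `Q`
  let X : Subgroup Q := (N.comap c).map M0.subtype
  have hXmem : ∀ k, k ∈ X ↔ ∃ hk : k ∈ M0, c ⟨k, hk⟩ ∈ N := by
    intro k
    constructor
    · rintro ⟨k, hk, rfl⟩
      exact ⟨k.2, hk⟩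
    · rintro ⟨hk, h1⟩
      exact ⟨⟨k, hk⟩, h1, rfl⟩
  have hXM : X ≤ M0 := fun k hk => ((hXmem k).1 hk).1
  have hXA : X ≤ A := fun k hk => hA k (hXM hk)
  have eX : X ≃* N := (((N.comap c).equivMapOfInjective M0.subtype M0.subtype_injective).symm.trans
    ((N.comap c).equivMapOfInjective c hci)).trans (MulEquiv.subgroupCongr (Subgroup.map_comap_eq_self hNle))
  have hXinv : ∀ σ ∈ Γ, x⁻¹ * σ x ∈ A → ∀ k ∈ X, σ k ∈ X := by
    intro σ hσ hσx k hk
    obtain ⟨hkM, hkN⟩ := (hXmem k).1 hk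
    refine (hXmem _).2 ⟨h.stab_M0 hσ hσx hkM, ?_⟩
    have h1 := hNn.conj_mem _ hkN ⟨σ, hσ, hσx⟩
    have h2 : (⟨σ, hσ, hσx⟩ : stb h x) * c ⟨k, hkM⟩ * (⟨σ, hσ, hσx⟩ : stb h x)⁻¹ =
        c ⟨σ k, h.stab_M0 hσ hσx hkM⟩ := by
      apply Subtype.ext
      rw [hcv, Subgroup.coe_mul, Subgroup.coe_mul, Subgroup.coe_inv, hcv, aut_conj]
    rwa [h2] at h1
  have hXne : X ≠ ⊥ := by
    intro hX
    apply hNne
    rw [Subgroup.eq_bot_iff_forall]
    intro n hn
    have h1 : (eX.symm ⟨n, hn⟩ : Q) = 1 := by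
      have h0 : ∀ k ∈ X, k = 1 := fun k hk => by rwa [hX, mem_bot] at hk
      exact h0 _ (eX.symm ⟨n, hn⟩).2
    have h2 : eX.symm ⟨n, hn⟩ = 1 := Subtype.ext h1
    have h3 : (⟨n, hn⟩ : N) = 1 := by rw [← eX.apply_symm_apply ⟨n, hn⟩, h2, map_one]
    exact congrArg Subtype.val h3
  refine ⟨X, hXA, fun a ha => ⟨fun haX => ?_, fun hax k hk => ?_⟩, ?_⟩
  · rw [← h.conj_stab ha]
    exact h.norm x hx X hXM hXinv hXne _ ((h.conj a).2 ha) haX
  · exact hXinv _ ((h.conj a).2 ha) ((h.conj_stab ha).2 hax) k hk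
  · -- the type of `X`
    have hfT : Finite T := inferInstance
    obtain ⟨m, rfl⟩ : ∃ m', m = m' + 1 := ⟨m - 1, by omega⟩
    by_cases hcm : ∃ a b : T, a * b ≠ b * a
    · right
      exact ⟨T, inferInstance, m, hTs, hcm, ⟨eX.trans e⟩⟩
    · left
      push Not at hcm
      have hTc : IsMulCommutative T := ⟨⟨hcm⟩⟩
      letI : CommGroup T := { (inferInstance : Group T) with mul_comm := hcm }
      have hp : (Nat.card T).Prime := IsSimpleGroup.prime_card
      have hcard : Nat.card X = Nat.card T ^ (m + 1) := by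
        rw [Nat.card_congr (eX.trans e).toEquiv, Nat.card_fun, Nat.card_eq_fintype_card (α := Fin (m + 1)),
          Fintype.card_fin]
      refine ⟨Nat.card T, hp, ?_, IsPGroup.of_card hcard⟩
      exact (dvd_pow_self _ (Nat.succ_ne_zero m)).trans (hcard ▸ Subgroup.card_dvd_of_le hXA)

/-- **The number of `M0`.** -/
theorem r_le [Finite Q] (hs : IsSimpleGroup Q) : {M : Subgroup Q | ∃ x, x ∉ A ∧ M = A ⊓ cj x A}.ncard ≤
    ∑ p ∈ (Nat.card A).primeFactors, Nat.card {P : Subgroup A // IsPGroup p P} +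
      Nat.card {X : Subgroup A // IsNonab X} := by
  classical
  set R := {M : Subgroup Q | ∃ x, x ∉ A ∧ M = A ⊓ cj x A} with hR
  have hex : ∀ M : R, ∃ X : Subgroup Q, X ≤ A ∧ (∀ a ∈ A, (∀ k ∈ X, a * k * a⁻¹ ∈ X) ↔ a ∈ M.1) ∧
      ((∃ p, p.Prime ∧ p ∣ Nat.card A ∧ IsPGroup p X) ∨ IsNonab X) := by
    rintro ⟨M, x, hx, rfl⟩
    obtain ⟨X, h1, h2, h3⟩ := exists_char h hs hx
    refine ⟨X, h1, fun a ha => ?_, h3⟩
    rw [h2 a ha, mem_inf]
    exact ⟨fun h => ⟨ha, h⟩, fun h => h.2⟩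
  choose X hXA hXn hXt using hex
  have hinj : ∀ M N : R, X M = X N → M = N := by
    intro M N hMN
    apply Subtype.ext
    have hle : ∀ M : R, M.1 ≤ A := by
      rintro ⟨_, x, hx, rfl⟩
      exact inf_le_left
    ext a
    constructor
    · intro ha
      rw [← hXn N a (hle M ha), ← hMN, hXn M a (hle M ha)]
      exact ha
    · intro ha
      rw [← hXn M a (hle N ha), hMN, hXn N a (hle N ha)]
      exact ha
  have hcase : ∀ M : R, (∃ p : (Nat.card A).primeFactors, IsPGroup p ((X M).subgroupOf A)) ∨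
      IsNonab ((X M).subgroupOf A) := by
    intro M
    rcases hXt M with ⟨p, hp, hpA, hpX⟩ | ⟨T, iT, m, h1, h2, ⟨e⟩⟩
    · left
      refine ⟨⟨p, Nat.mem_primeFactors.2 ⟨hp, hpA, Nat.card_pos.ne'⟩⟩, ?_⟩
      exact hpX.of_equiv (subgroupOfEquivOfLe (hXA M)).symm
    · right
      exact ⟨T, iT, m, h1, h2, ⟨(subgroupOfEquivOfLe (hXA M)).trans e⟩⟩
  let φ : R → (Σ p : (Nat.card A).primeFactors, {P : Subgroup A // IsPGroup p P}) ⊕ {X : Subgroup A // IsNonab X} :=
    fun M => if hM : ∃ p : (Nat.card A).primeFactors, IsPGroup p ((X M).subgroupOf A) then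
      Sum.inl ⟨hM.choose, ⟨_, hM.choose_spec⟩⟩ else Sum.inr ⟨_, (hcase M).resolve_left hM⟩
  have hφ : Function.Injective φ := by
    have key : ∀ M N : R, (X M).subgroupOf A = (X N).subgroupOf A → M = N := by
      intro M N hMN
      apply hinj
      have h1 := Subgroup.subgroupOf_map_subtype (X M) A
      rw [hMN, Subgroup.subgroupOf_map_subtype, inf_eq_left.2 (hXA M), inf_eq_left.2 (hXA N)] at h1
      exact h1.symm
    intro M N hMN
    apply key
    simp only [φ] at hMN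
    by_cases h1 : ∃ p : (Nat.card A).primeFactors, IsPGroup p ((X M).subgroupOf A)
    · by_cases h2 : ∃ p : (Nat.card A).primeFactors, IsPGroup p ((X N).subgroupOf A)
      · rw [dif_pos h1, dif_pos h2] at hMN
        have h3 := Sum.inl_injective hMN
        have h4 := congrArg (fun s : Σ p : (Nat.card A).primeFactors, {P : Subgroup A // IsPGroup p P} => s.2.1) h3
        exact h4
      · rw [dif_pos h1, dif_neg h2] at hMN
        exact absurd hMN (by simp)
    · by_cases h2 : ∃ p : (Nat.card A).primeFactors, IsPGroup p ((X N).subgroupOf A)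
      · rw [dif_neg h1, dif_pos h2] at hMN
        exact absurd hMN (by simp)
      · rw [dif_neg h1, dif_neg h2] at hMN
        exact congrArg Subtype.val (Sum.inr_injective hMN)
  have h1 := Nat.card_le_card_of_injective φ hφ
  rw [Nat.card_sum, Nat.card_sigma, Finset.sum_coe_sort (Nat.card A).primeFactors
    (fun p => Nat.card {P : Subgroup A // IsPGroup p P})] at h1
  exact h1

end

end Cfsg.Agent.H212.EP
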