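import Mathlib

/-!
# Crude bound for the number of `p`-subgroups
-/

set_option autoImplicit false

namespace Cfsg.Agent.H212.EP

open Subgroup

/-- `∏_{i < v} (1 + p ^ i)` -/
def cr (p : ℕ) : ℕ → ℕ
  | 0 => 1
  | v + 1 => cr p v * (1 + p ^ v)

theorem cr_pos (p v : ℕ) : 0 < cr p v := by
  induction v with
  | zero => exact Nat.one_pos
  | succ v ih => exact Nat.mul_pos ih (by positivity)

theorem cr_mono {p v w : ℕ} (h : v ≤ w) : cr p v ≤ cr p w := by
  induction h with
  | refl => exact le_rfl
  | step _ ih => exact ih.trans (Nat.le_mul_of_pos_right _ (by positivity))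

/-- the number of subgroups of a group of order `p ^ v` is at most `∏_{i < v} (1 + p ^ i)` -/
theorem card_subgroup_le {p : ℕ} (hp : p.Prime) : ∀ (v : ℕ) (P : Type*) [Group P], Nat.card P = p ^ v →
    Nat.card (Subgroup P) ≤ cr p v := by
  intro v
  induction v with
  | zero =>
    intro P _ hP
    have : Finite P := Nat.finite_of_card_ne_zero (by rw [hP]; positivity)
    have h1 : Nat.card P = 1 := by rw [hP]; rfl
    have : Subsingleton P := (Nat.card_eq_one_iff_unique.1 h1).1
    have : Subsingleton (Subgroup P) := inferInstance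
    have h2 : Nat.card (Subgroup P) ≤ 1 := Finite.card_le_one_iff_subsingleton.2 this
    exact h2
  | succ v ih =>
    intro P _ hP
    have : Finite P := Nat.finite_of_card_ne_zero (by rw [hP]; exact pow_ne_zero _ hp.ne_zero)
    have hfp : Fact p.Prime := ⟨hp⟩
    obtain ⟨K, hK⟩ := Sylow.exists_subgroup_card_pow_prime p (n := v) (show p ^ v ∣ Nat.card P by
      rw [hP]; exact pow_dvd_pow _ (Nat.le_succ v))
    have hKi : K.index = p := by
      have h1 := K.card_mul_index
      rw [hK, hP, pow_succ] at h1
      exact Nat.eq_of_mul_eq_mul_left (pow_pos hp.pos v) h1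
    have hPp : IsPGroup p P := IsPGroup.of_card hP
    have hKn : K.Normal := by
      apply Subgroup.normal_of_index_eq_minFac_card
      rw [hKi, hP, Nat.pow_minFac (Nat.succ_ne_zero v), hp.minFac_eq]
    -- choose an element outside
    have hKt : K ≠ ⊤ := by
      intro e
      rw [e, Subgroup.index_top] at hKi
      exact hp.one_lt.ne hKi
    obtain ⟨x, hx⟩ : ∃ x, x ∉ K := by
      by_contra hcon
      push Not at hcon
      exact hKt ((Subgroup.eq_top_iff' K).2 hcon)
    have hKm : ∀ L : Subgroup P, K ≤ L → L = K ∨ L = ⊤ := by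
      intro L hL
      have h1 : K.relIndex L * L.index = K.index := Subgroup.relIndex_mul_index hL
      rw [hKi] at h1
      rcases (Nat.dvd_prime hp).1 (Dvd.intro_left _ h1 : L.index ∣ p) with h2 | h2
      · right
        exact Subgroup.index_eq_one.1 h2
      · left
        rw [h2] at h1
        have h3 : K.relIndex L = 1 := by
          have h4 : K.relIndex L * p = 1 * p := by rw [h1, one_mul]
          exact Nat.eq_of_mul_eq_mul_right hp.pos h4
        exact le_antisymm (Subgroup.relIndex_eq_one.1 h3) hL
    -- the map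
    have key : ∀ H : Subgroup P, ¬ H ≤ K → ∃ k : K, H = (H ⊓ K) ⊔ zpowers (x * (k : P)) := by
      intro H hH
      have h1 : H ⊔ K = ⊤ := by
        rcases hKm (H ⊔ K) le_sup_right with h2 | h2
        · exact absurd (le_sup_left.trans h2.le) hH
        · exact h2
      have h2 : x ∈ H ⊔ K := by rw [h1]; exact mem_top _
      rw [Subgroup.mem_sup_of_normal_right] at h2
      obtain ⟨y, hy, z, hz, hyz⟩ := h2
      have hyx : y = x * z⁻¹ := by rw [← hyz, mul_inv_cancel_right]
      refine ⟨⟨z⁻¹, K.inv_mem hz⟩, ?_⟩
      change H = (H ⊓ K) ⊔ zpowers (x * z⁻¹)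
      rw [← hyx]
      apply le_antisymm
      · intro w hw
        have hyK : y ∉ K := by
          intro hyK
          apply hx
          rw [← hyz]
          exact K.mul_mem hyK hz
        have h3 : K ⊔ zpowers y = ⊤ := by
          rcases hKm (K ⊔ zpowers y) le_sup_left with h2 | h2
          · exact absurd (h2.le (mem_sup_right (mem_zpowers y))) hyK
          · exact h2
        have h4 : w ∈ K ⊔ zpowers y := by rw [h3]; exact mem_top _
        rw [Subgroup.mem_sup_of_normal_left] at h4
        obtain ⟨a, ha, b, hb, hab⟩ := h4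
        have hbH : b ∈ H := (zpowers_le.2 hy) hb
        have haH : a ∈ H := by
          have : a = w * b⁻¹ := by rw [← hab, mul_inv_cancel_right]
          rw [this]
          exact H.mul_mem hw (H.inv_mem hbH)
        rw [← hab]
        exact mul_mem (mem_sup_left ⟨haH, ha⟩) (mem_sup_right hb)
      · exact sup_le inf_le_left (zpowers_le.2 hy)
    classical
    let φ : Subgroup P → Subgroup K × Option K := fun H =>
      (H.subgroupOf K, if hH : H ≤ K then none else some (key H hH).choose)
    have hφ : Function.Injective φ := by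
      intro H₁ H₂ e
      have e1 : H₁.subgroupOf K = H₂.subgroupOf K := congrArg Prod.fst e
      have e2 := congrArg Prod.snd e
      have e3 : H₁ ⊓ K = H₂ ⊓ K := by
        rw [← Subgroup.subgroupOf_map_subtype, e1, Subgroup.subgroupOf_map_subtype]
      simp only [φ] at e2
      by_cases h1 : H₁ ≤ K
      · by_cases h2 : H₂ ≤ K
        · rwa [inf_eq_left.2 h1, inf_eq_left.2 h2] at e3
        · rw [dif_pos h1, dif_neg h2] at e2
          exact absurd e2 (by simp)
      · by_cases h2 : H₂ ≤ K
        · rw [dif_neg h1, dif_pos h2] at e2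
          exact absurd e2 (by simp)
        · rw [dif_neg h1, dif_neg h2, Option.some_inj] at e2
          rw [(key H₁ h1).choose_spec, (key H₂ h2).choose_spec, e2, e3]
    have h1 := Nat.card_le_card_of_injective φ hφ
    rw [Nat.card_prod, Finite.card_option, hK] at h1
    refine h1.trans ?_
    rw [cr, add_comm 1]
    exact Nat.mul_le_mul_right _ (ih K hK)

/-- the number of `p`-subgroups -/
theorem card_pgroups_le {p : ℕ} (hp : p.Prime) {G : Type*} [Group G] [Finite G] :
    Nat.card {P : Subgroup G // IsPGroup p P} ≤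
      Nat.card G / p ^ (Nat.card G).factorization p * cr p ((Nat.card G).factorization p) := by
  have hfp : Fact p.Prime := ⟨hp⟩
  set v := (Nat.card G).factorization p with hv
  have hS : ∀ S : Sylow p G, Nat.card S = p ^ v := fun S => S.card_eq_multiplicity
  have hidx : Nat.card (Sylow p G) ≤ Nat.card G / p ^ v := by
    obtain ⟨S⟩ : Nonempty (Sylow p G) := inferInstance
    have h1 := S.card_dvd_index
    have h2 : (S : Subgroup G).index = Nat.card G / p ^ v := by
      rw [← hS S]
      exact (Nat.div_eq_of_eq_mul_right Nat.card_pos (S : Subgroup G).card_mul_index.symm).symm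
    rw [h2] at h1
    apply Nat.le_of_dvd _ h1
    exact Nat.div_pos (Nat.le_of_dvd Nat.card_pos (Nat.ordProj_dvd _ _)) (pow_pos hp.pos _)
  have hex : ∀ P : {P : Subgroup G // IsPGroup p P}, ∃ S : Sylow p G, P.1 ≤ S := fun P => P.2.exists_le_sylow
  choose s hs using hex
  let φ : {P : Subgroup G // IsPGroup p P} → Σ S : Sylow p G, Subgroup S := fun P => ⟨s P, P.1.subgroupOf (s P)⟩
  have hφ : Function.Injective φ := by
    intro P₁ P₂ e
    have e1 : s P₁ = s P₂ := congrArg Sigma.fst e
    apply Subtype.ext
    have h1 : ((φ P₁).2).map (Subgroup.subtype _) = P₁.1 := by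
      change (P₁.1.subgroupOf (s P₁)).map _ = _
      rw [Subgroup.subgroupOf_map_subtype, inf_eq_left.2 (hs P₁)]
    have h2 : ((φ P₂).2).map (Subgroup.subtype _) = P₂.1 := by
      change (P₂.1.subgroupOf (s P₂)).map _ = _
      rw [Subgroup.subgroupOf_map_subtype, inf_eq_left.2 (hs P₂)]
    rw [← h1, ← h2, e]
  refine (Nat.card_le_card_of_injective φ hφ).trans ?_
  classical
  have := Fintype.ofFinite (Sylow p G)
  rw [Nat.card_sigma]
  calc ∑ S : Sylow p G, Nat.card (Subgroup S) ≤ ∑ _S : Sylow p G, cr p v :=
        Finset.sum_le_sum fun S _ => card_subgroup_le hp v S (hS S)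
    _ = Nat.card (Sylow p G) * cr p v := by
        rw [Finset.sum_const, smul_eq_mul, Finset.card_univ, Nat.card_eq_fintype_card]
    _ ≤ _ := Nat.mul_le_mul_right _ hidx

end Cfsg.Agent.H212.EP
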