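import Cfsg.Agent.H212.EP.Sp12
import Cfsg.Agent.S3948
import Cfsg.Agent.S5869

/-!
# S3499, layer IV: the row of S5869 (`Sp_12(q)`, `q ≥ 3`)
-/

set_option autoImplicit false

namespace Cfsg.Agent.H212.EP

open Subgroup Cfsg.Agent.H284 Cfsg.Agent.H419.EP
open scoped MatrixGroups

theorem twoGenAll.{u} : TwoGenAll.{u} := fun T _ _ hT => by
  have := hT
  exact Cfsg.Agent.S3948.result

/-- **The row of S5869.** -/
theorem row_sp12 {Q : Type} [Group Q] [Finite Q] (hs : IsSimpleGroup Q) {A : Subgroup Q} {Γ : Subgroup (MulAut Q)}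
    (h : EPT A Γ) {F : Type} [Field F] [Fintype F] (m : Model Q (Cfsg.spGL 6 F)) (h3 : 3 ≤ Fintype.card F)
    (hres : Cfsg.Geo.InSymplecticResidualClass (m.hat A))
    (hSuz : Fintype.card F = 3 → (∃ (L : Type) (_ : Group L), Cfsg.Spor.IsoSuz L ∧ HasSoc A L) → A.index ≤ 2 ^ 82)
    (hown : ∀ p : ℕ, p.Prime → CharP F p → 13 ≤ p → HasSoc A (Matrix.ProjectiveSpecialLinearGroup (Fin 2) F) → False)
    (hown5 : CharP F 5 → HasSoc A (Cfsg.PSp 2 F) → False) : False :=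
  row_core twoGenAll hs h m h3 (Cfsg.Agent.S5869.result (m.hat A) (m.isMaximalIn h.max) hres) hSuz hown hown5

end Cfsg.Agent.H212.EP
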