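import Cfsg.Agent.H212.EP.SixCore
import Cfsg.Agent.H212.EP.RowSp12
import Cfsg.Agent.H775.EPS.SuzFin
import Cfsg.Agent.H646.EPR.PspRes
import Cfsg.Agent.S0205

/-!
# S3499, row of S5869 without hypotheses (helper212)
-/

set_option autoImplicit false

namespace Cfsg.Agent.H212.EP

open Subgroup Cfsg Cfsg.Agent.H284 Cfsg.Agent.H419.EP
open scoped MatrixGroups

theorem twoGen : Cfsg.Agent.H59.EP.TwoGen.{0} := fun _ _ _ _ => Cfsg.Agent.S3948.result

theorem even_card (T : Type) [Group T] [Finite T] (hT : IsSimpleGroup T) (hn : ¬ ∀ a b : T, a * b = b * a) :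
    2 ∣ Nat.card T := by
  by_contra h
  have h1 := Cfsg.Agent.S0205.result (G := T) (Nat.not_even_iff_odd.1 fun he => h he.two_dvd)
  exact hn (IsSimpleGroup.comm_iff_isSolvable.2 h1)

/-- **The row of S5869.** -/
theorem row_six : Cfsg.Agent.H646.EPR.RowSp 6 := by
  intro Q _ _ hs A Γ h F _ _ m h3 hres
  exact row_six_core twoGenAll twoGen even_card hs h m h3
    (Cfsg.Agent.S5869.result (m.hat A) (m.isMaximalIn h.max) hres) fun _ hL => Cfsg.Agent.H775.EPS.index_le_suz' hs h hL

end Cfsg.Agent.H212.EP
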