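import Cfsg.Agent.H212.EP.Sp12
import Cfsg.Agent.H36.EPL.Bound
import Cfsg.Agent.H273.EPU.Own

/-!
# S3499, row of S5869, own characteristic: plugging helper36's and helper273's theorems (helper212)
-/

set_option autoImplicit false

namespace Cfsg.Agent.H212.EP

open Subgroup Cfsg Cfsg.Agent.H284 Cfsg.Agent.H419.EP
open scoped MatrixGroups

/-- `|PSp₁₂(q)| ≥ q ^ 45` -/
theorem card_sp12 {Q : Type*} [Group Q] [Finite Q] {F : Type*} [Field F] [Fintype F] (m : Model Q (Cfsg.spGL 6 F)) :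
    Fintype.card F ^ 45 ≤ Nat.card Q := by
  have h1 := Cfsg.Agent.H765.EPR.card_model m
  rw [Cfsg.Agent.H955.card_spGL, Nat.card_eq_fintype_card (α := F)] at h1
  set q := Fintype.card F with hq
  have hq2 : 2 ≤ q := Fintype.one_lt_card
  have h2 : q ^ (2 * (5 + 1)) - 1 ∣ ∏ i ∈ Finset.range 6, (q ^ (2 * (i + 1)) - 1) :=
    Finset.dvd_prod_of_mem (fun i => q ^ (2 * (i + 1)) - 1) (Finset.mem_range.2 (by norm_num))
  have h3 : 0 < ∏ i ∈ Finset.range 6, (q ^ (2 * (i + 1)) - 1) := by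
    apply Finset.prod_pos
    intro i _
    have : 1 < q ^ (2 * (i + 1)) := Nat.one_lt_pow (by omega) (by omega)
    omega
  have h4 := Nat.le_of_dvd h3 h2
  have h5 : q ^ 11 ≤ q ^ (2 * (5 + 1)) - 1 := by
    have h6 : q ^ (2 * (5 + 1)) = q ^ 11 * q := by rw [← pow_succ]
    have h7 : 0 < q ^ 11 := by positivity
    rw [h6]
    have h8 : q ^ 11 * 2 ≤ q ^ 11 * q := Nat.mul_le_mul_left _ hq2
    omega
  have h6 : q ^ 45 * q ^ 2 ≤ Nat.card Q * q := by
    calc q ^ 45 * q ^ 2 = q ^ (6 ^ 2) * q ^ 11 := by rw [← pow_add, ← pow_add]; norm_num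
      _ ≤ q ^ (6 ^ 2) * ∏ i ∈ Finset.range 6, (q ^ (2 * (i + 1)) - 1) := Nat.mul_le_mul_left _ (h5.trans h4)
      _ ≤ Nat.card Q * (q - 1) := h1
      _ ≤ Nat.card Q * q := Nat.mul_le_mul_left _ (Nat.sub_le _ _)
  have h7 : q ^ 45 * q ≤ Nat.card Q := by
    apply Nat.le_of_mul_le_mul_right _ (show 0 < q by omega)
    rw [mul_assoc, ← pow_two]
    exact h6
  exact (Nat.le_mul_of_pos_right _ (by omega)).trans h7

/-- the own characteristic sockets of `row_core` -/
theorem row_six_core (H2 : TwoGenAll.{0}) (hg : Cfsg.Agent.H59.EP.TwoGen.{0})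
    (hFT : ∀ (T : Type) [Group T] [Finite T], IsSimpleGroup T → (¬ ∀ a b : T, a * b = b * a) → 2 ∣ Nat.card T)
    {Q : Type} [Group Q] [Finite Q] (hs : IsSimpleGroup Q) {A : Subgroup Q}
    {Γ : Subgroup (MulAut Q)} (h : EPT A Γ) {F : Type} [Field F] [Fintype F] (m : Model Q (Cfsg.spGL 6 F))
    (h3 : 3 ≤ Fintype.card F) (hC : Concl F (m.hat A))
    (hSuz : Fintype.card F = 3 → (∃ (L : Type) (_ : Group L), Cfsg.Spor.IsoSuz L ∧ HasSoc A L) → A.index ≤ 2 ^ 82) :
    False := by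
  refine row_core H2 hs h m h3 hC hSuz (fun p hp hch h13 hS => ?_) (fun hch hS => ?_)
  · have h4 : p ∣ Fintype.card F := by
      have h5 := FiniteField.cast_card_eq_zero F
      exact (CharP.cast_eq_zero_iff F p _).1 h5
    have h5 := Nat.le_of_dvd (by omega) h4
    exact Cfsg.Agent.H36.EPL.own_sp hg hs h (by omega) (by norm_num) m hS
  · have h4 : Odd (Fintype.card F) := by
      have : Fact (Nat.Prime 5) := ⟨by norm_num⟩
      obtain ⟨n, -, hn⟩ := FiniteField.card F 5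
      rw [hn]
      exact Odd.pow (by decide)
    refine Cfsg.Agent.H273.EPU.own hs h hg hFT h4 hS ?_
    have h5 := card_sp12 m
    omega

end Cfsg.Agent.H212.EP
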