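import Cfsg.Agent.H212.EP.AutCards

/-!
# S3499, layer IV: the residual class in `Sp_12(q)`, `q ≥ 3` (row of S5869)

`row_core` : the row, from the conclusion of S5869 (`Concl`), with hypotheses for the Suzuki sporadic group (an index bound
`2 ^ 82`, task 5959) and for the two own characteristic cases `PSL_2(q)`, `PSp_4(q)`.
-/

set_option autoImplicit false

namespace Cfsg.Agent.H212.EP

open Subgroup Cfsg.Agent.H284 Cfsg.Agent.H419.EP
open scoped MatrixGroups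

/-- the primes of `N` from a factorisation -/
theorem primes_of {N : ℕ} {l : List (ℕ × ℕ)} (hN : (l.map fun x => x.1 ^ x.2).prod = N)
    (hl : ∀ x ∈ l, x.1.Prime ∧ x.1 ^ x.2 ∣ N ∧ ¬ x.1 ^ (x.2 + 1) ∣ N) :
    ∀ p, p.Prime → p ∣ N → ∃ v, (p, v) ∈ l ∧ p ^ v ∣ N ∧ ¬ p ^ (v + 1) ∣ N := by
  intro p hp hpN
  rw [← hN, hp.prime.dvd_prod_iff] at hpN
  obtain ⟨a, ha, hpa⟩ := hpN
  obtain ⟨x, hx, rfl⟩ := List.mem_map.1 ha
  obtain ⟨h1, h2, h3⟩ := hl x hx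
  have h4 : p = x.1 := (Nat.prime_dvd_prime_iff_eq hp h1).1 (hp.dvd_of_dvd_pow hpa)
  subst h4
  exact ⟨x.2, hx, h2, h3⟩

/-- `q ^ 72 ≤ |Sp_12(q)|` -/
theorem card_sp12_ge {F : Type*} [Field F] [Fintype F] : Fintype.card F ^ 72 ≤ Nat.card (Cfsg.spGL 6 F) := by
  rw [Cfsg.Agent.H955.card_spGL (m := 6) (F := F), Nat.card_eq_fintype_card]
  have hq : 2 ≤ Fintype.card F := Fintype.one_lt_card
  set q := Fintype.card F with hqd
  have h1 : ∏ i ∈ Finset.range 6, q ^ (2 * i + 1) ≤ ∏ i ∈ Finset.range 6, (q ^ (2 * (i + 1)) - 1) := by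
    apply Finset.prod_le_prod'
    intro i _
    have h2 : q ^ (2 * (i + 1)) = q ^ (2 * i + 1) * q := by rw [← pow_succ]; rfl
    have h3 : 1 ≤ q ^ (2 * i + 1) := Nat.one_le_pow _ _ (by omega)
    rw [h2]
    have h4 : q ^ (2 * i + 1) * 2 ≤ q ^ (2 * i + 1) * q := Nat.mul_le_mul_left _ hq
    omega
  have h2 : ∏ i ∈ Finset.range 6, q ^ (2 * i + 1) = q ^ 36 := by
    rw [Finset.prod_pow_eq_pow_sum]
    rfl
  rw [h2] at h1
  calc q ^ 72 = q ^ (6 ^ 2) * q ^ 36 := by rw [← pow_add]; rfl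
    _ ≤ _ := Nat.mul_le_mul_left _ h1

theorem kill {Q : Type} [Group Q] [Finite Q] {A : Subgroup Q} {F : Type} [Field F] [Fintype F]
    (m : Model Q (Cfsg.spGL 6 F)) {N B : ℕ} (hN : N ≠ 0) (hA : Nat.card A ∣ N) (hi : A.index ≤ B) {q₀ : ℕ}
    (hq : q₀ ≤ Fintype.card F) (hfin : B * N < q₀ ^ 71) : False := by
  have h1 := card_le_model m
  have h2 := card_sp12_ge (F := F)
  have h3 := card_Q A
  have hAN : Nat.card A ≤ N := Nat.le_of_dvd (Nat.pos_of_ne_zero hN) hA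
  have hq2 : 2 ≤ Fintype.card F := Fintype.one_lt_card
  have h4 : Nat.card Q ≤ B * N := by
    rw [← h3]
    exact Nat.mul_le_mul hi hAN
  have h5 : Fintype.card F ^ 71 * Fintype.card F ≤ (B * N) * Fintype.card F := by
    calc Fintype.card F ^ 71 * Fintype.card F = Fintype.card F ^ 72 := by rw [← pow_succ]
      _ ≤ Nat.card (Cfsg.spGL 6 F) := h2
      _ ≤ Nat.card Q * (Fintype.card F - 1) := h1
      _ ≤ (B * N) * Fintype.card F := Nat.mul_le_mul h4 (Nat.sub_le _ _)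
  have h6 : Fintype.card F ^ 71 ≤ B * N := Nat.le_of_mul_le_mul_right h5 (by omega)
  have h7 : q₀ ^ 71 ≤ Fintype.card F ^ 71 := Nat.pow_le_pow_left hq _
  omega

/-- the conclusion of S5869 -/
def Concl (F : Type) [Field F] [Fintype F] (H : Subgroup (Matrix.GeneralLinearGroup (Fin 6 ⊕ Fin 6) F)) : Prop :=
    ∃ (P : Subgroup (Matrix.GeneralLinearGroup (Fin 6 ⊕ Fin 6) F)) (p : ℕ), Cfsg.Geo.IsResidualCore H P ∧ p.Prime ∧ CharP F p ∧
    ((Nonempty ((P ⧸ (Cfsg.Geo.scalars (Fin 6 ⊕ Fin 6) F).subgroupOf P) ≃* Matrix.ProjectiveSpecialLinearGroup (Fin 2) (ZMod 11)) ∧ ((Fintype.card F = p ∧ p ≠ 11 ∧ (p % 20 = 9 ∨ p % 20 = 11 ∨ p % 20 = 1 ∨ p % 20 = 19)) ∨ (Fintype.card F = p ^ 2 ∧ p ≠ 2 ∧ (p % 5 = 2 ∨ p % 5 = 3)))) ∨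
     (Nonempty ((P ⧸ (Cfsg.Geo.scalars (Fin 6 ⊕ Fin 6) F).subgroupOf P) ≃* Matrix.ProjectiveSpecialLinearGroup (Fin 2) (ZMod 13)) ∧ ((Fintype.card F = p ∧ p ≠ 13 ∧ (p % 28 = 13 ∨ p % 28 = 15 ∨ p % 28 = 1 ∨ p % 28 = 27)) ∨ (Fintype.card F = p ^ 3 ∧ p ≠ 2 ∧ (p % 7 = 2 ∨ p % 7 = 5 ∨ p % 7 = 3 ∨ p % 7 = 4)))) ∨
     ((∃ (K : Type) (_ : Field K) (_ : Fintype K), Fintype.card K = 25 ∧ Nonempty ((P ⧸ (Cfsg.Geo.scalars (Fin 6 ⊕ Fin 6) F).subgroupOf P) ≃* Matrix.ProjectiveSpecialLinearGroup (Fin 2) K)) ∧ Fintype.card F = p ∧ p ≠ 3 ∧ (p % 5 = 2 ∨ p % 5 = 3)) ∨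
     ((∃ (K : Type) (_ : Field K) (_ : Fintype K), Fintype.card K = 5 ∧ Nonempty ((P ⧸ (Cfsg.Geo.scalars (Fin 6 ⊕ Fin 6) F).subgroupOf P) ≃* Cfsg.PSp 2 K)) ∧ ((Fintype.card F = p ∧ (p % 5 = 1 ∨ p % 5 = 4)) ∨ (Fintype.card F = p ^ 2 ∧ (p % 5 = 2 ∨ p % 5 = 3)))) ∨
     ((∃ (K : Type) (_ : Field K) (_ : Fintype K), Fintype.card K = 4 ∧ Nonempty ((P ⧸ (Cfsg.Geo.scalars (Fin 6 ⊕ Fin 6) F).subgroupOf P) ≃* Cfsg.Lie.G2 K)) ∧ Fintype.card F = p ∧ Odd p ∧ p ≠ 3) ∨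
     (Nonempty ((P ⧸ (Cfsg.Geo.scalars (Fin 6 ⊕ Fin 6) F).subgroupOf P) ≃* alternatingGroup (Fin 14)) ∧ Fintype.card F = 2) ∨
     (Cfsg.Spor.IsoSuz (P ⧸ (Cfsg.Geo.scalars (Fin 6 ⊕ Fin 6) F).subgroupOf P) ∧ Fintype.card F = 3) ∨
     (Nonempty ((P ⧸ (Cfsg.Geo.scalars (Fin 6 ⊕ Fin 6) F).subgroupOf P) ≃* Matrix.ProjectiveSpecialLinearGroup (Fin 2) F) ∧ 13 ≤ p) ∨
     (Nonempty ((P ⧸ (Cfsg.Geo.scalars (Fin 6 ⊕ Fin 6) F).subgroupOf P) ≃* Cfsg.PSp 2 F) ∧ p = 5))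

/-- **The row of S5869.** -/
theorem row_core (H2 : TwoGenAll.{0}) {Q : Type} [Group Q] [Finite Q] (hs : IsSimpleGroup Q) {A : Subgroup Q}
    {Γ : Subgroup (MulAut Q)} (h : EPT A Γ) {F : Type} [Field F] [Fintype F] (m : Model Q (Cfsg.spGL 6 F))
    (h3 : 3 ≤ Fintype.card F) (hC : Concl F (m.hat A))
    (hSuz : Fintype.card F = 3 → (∃ (L : Type) (_ : Group L), Cfsg.Spor.IsoSuz L ∧ HasSoc A L) → A.index ≤ 2 ^ 82)
    (hown : ∀ p : ℕ, p.Prime → CharP F p → 13 ≤ p → HasSoc A (Matrix.ProjectiveSpecialLinearGroup (Fin 2) F) → False)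
    (hown5 : CharP F 5 → HasSoc A (Cfsg.PSp 2 F) → False) : False := by
  obtain ⟨P, p, hP, hp, hch, hcases⟩ := hC
  have hsoc := hasSoc_of_core m hP
  rcases hcases with ⟨⟨e⟩, -⟩ | ⟨⟨e⟩, -⟩ | ⟨⟨K, _, _, hK, ⟨e⟩⟩, -⟩ | ⟨⟨K, _, _, hK, ⟨e⟩⟩, -⟩ |
    ⟨⟨K, _, _, hK, ⟨e⟩⟩, hFp, hpo, hp3⟩ | ⟨-, hF2⟩ | ⟨hS, hF3⟩ | ⟨⟨e⟩, hp13⟩ | ⟨⟨e⟩, hp5⟩
  · have h11 := card_dvd_aut (hsoc.congr e)
    rw [aut_l11] at h11
    exact kill m (by norm_num) h11 (index_le_of_dvd' H2 hs h (by norm_num) h11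
      (l := [(2, 3), (3, 1), (5, 1), (11, 1)]) (k := 1) (B := 10 ^ 9) (primes_of (by decide) (by
        simp only [List.mem_cons, List.not_mem_nil, or_false, forall_eq_or_imp, forall_eq]
        norm_num)) (pow_not_dvd (m := 60) (by norm_num) (by norm_num) (by omega)) (by decide +kernel)) h3
      (by norm_num)
  · have h13 := card_dvd_aut (hsoc.congr e)
    rw [aut_l13] at h13
    exact kill m (by norm_num) h13 (index_le_of_dvd' H2 hs h (by norm_num) h13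
      (l := [(2, 3), (3, 1), (7, 1), (13, 1)]) (k := 1) (B := 10 ^ 10) (primes_of (by decide) (by
        simp only [List.mem_cons, List.not_mem_nil, or_false, forall_eq_or_imp, forall_eq]
        norm_num)) (pow_not_dvd (m := 60) (by norm_num) (by norm_num) (by omega)) (by decide +kernel)) h3
      (by norm_num)
  · have h25 := card_dvd_aut (hsoc.congr e)
    rw [aut_l25 hK] at h25
    exact kill m (by norm_num) h25 (index_le_of_dvd' H2 hs h (by norm_num) h25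
      (l := [(2, 5), (3, 1), (5, 2), (13, 1)]) (k := 1) (B := 10 ^ 13) (primes_of (by decide) (by
        simp only [List.mem_cons, List.not_mem_nil, or_false, forall_eq_or_imp, forall_eq]
        norm_num)) (pow_not_dvd (m := 177) (by norm_num) (by norm_num) (by decide +kernel)) (by decide +kernel)) h3
      (by norm_num)
  · have h45 := card_dvd_aut (hsoc.congr e)
    rw [aut_psp45 hK] at h45
    exact kill m (by norm_num) h45 (index_le_of_dvd' H2 hs h (by norm_num) h45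
      (l := [(2, 7), (3, 2), (5, 4), (13, 1)]) (k := 2) (B := 3 * 10 ^ 24) (primes_of (by decide) (by
        simp only [List.mem_cons, List.not_mem_nil, or_false, forall_eq_or_imp, forall_eq]
        norm_num)) (pow_not_dvd (m := 211) (by norm_num) (by norm_num) (by decide +kernel)) (by decide +kernel)) h3
      (by norm_num)
  · have hsG := hP.simple
    have hs2 : IsSimpleGroup (Cfsg.Lie.G2 K) := by
      have := hP.simple
      exact e.symm.isSimpleGroup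
    have hna : ¬ IsMulCommutative (Cfsg.Lie.G2 K) := by
      intro hc
      apply hP.nonabelian
      refine ⟨⟨fun a b => e.injective ?_⟩⟩
      rw [map_mul, map_mul]
      exact hc.is_comm.comm _ _
    have h24 := card_dvd_aut (hsoc.congr e)
    rw [aut_g24 hK hs2 hna] at h24
    have hq5 : 5 ≤ Fintype.card F := by
      obtain ⟨k, hk⟩ := hpo
      omega
    exact kill m (by norm_num) h24 (index_le_of_dvd' H2 hs h (by norm_num) h24
      (l := [(2, 13), (3, 3), (5, 2), (7, 1), (13, 1)]) (k := 2) (B := 5 * 10 ^ 37) (primes_of (by decide +kernel) (by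
        simp only [List.mem_cons, List.not_mem_nil, or_false, forall_eq_or_imp, forall_eq]
        norm_num)) (pow_not_dvd (m := 796) (by norm_num) (by norm_num) (by decide +kernel)) (by decide +kernel)) hq5
      (by norm_num)
  · omega
  · have hi := hSuz hF3 ⟨_, _, hS, hsoc⟩
    have hd : Nat.card A ∣ 896690995200 := by
      have : Finite (P ⧸ (Cfsg.Geo.scalars (Fin 6 ⊕ Fin 6) F).subgroupOf P) := inferInstance
      exact (card_dvd_aut hsoc).trans (aut_suz hS)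
    have h1 := card_le_model m
    have h4 := card_Q A
    have h5 : Nat.card Q ≤ 2 ^ 82 * 896690995200 := by
      rw [← h4]
      exact Nat.mul_le_mul hi (Nat.le_of_dvd (by norm_num) hd)
    rw [Cfsg.Agent.H955.card_spGL (m := 6) (F := F), Nat.card_eq_fintype_card (α := F), hF3] at h1
    have h6 : 3 ^ (6 ^ 2) * ∏ i ∈ Finset.range 6, (3 ^ (2 * (i + 1)) - 1) ≤ 2 ^ 82 * 896690995200 * (3 - 1) :=
      h1.trans (Nat.mul_le_mul_right _ h5)
    revert h6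
    decide +kernel
  · exact hown p hp hch hp13 (hsoc.congr e)
  · subst hp5
    exact hown5 hch (hsoc.congr e)

end Cfsg.Agent.H212.EP
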